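import Groth.Agent.CycDetLib.Pivot
import Mathlib.RingTheory.Length
import Mathlib.Tactic.LinearCombination
import Mathlib.Tactic.Ring

/-! # The determinant of a finite length module is a line -/

set_option autoImplicit false
set_option linter.style.haveILetI false

universe u v

open IsLocalRing

namespace CycDetLib

variable {R : Type u} [CommRing R] [IsLocalRing R] {M : Type v} [AddCommGroup M] [Module R M] {l : ℕ}

local notation "sB" => CycDet.spanBefore R M
local notation "κ" => IsLocalRing.ResidueField R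

variable (F : Ref R M l)

theorem piv_congr {f e e' : Fin l → M} {i k : Fin l} {c : κ} (h1 : sB e i = sB e' i) (h2 : e i = e' i)
    (h : Piv f e' i k c) : Piv f e i k c := by
  simpa only [Piv, h1, h2] using h

theorem sB_eq_update {e e' : Fin l → M} {a : Fin l} {c : Rˣ} (he : ∀ j, j ≠ a → e j = e' j)
    (h : e a - (c : R) • e' a ∈ sB e a) (i : ℕ) : sB e i = sB e' i := by
  have ha : sB e a = sB e' a := sB_congr fun j hj => he j (fun e0 => by rw [e0] at hj; omega)
  refine le_antisymm (Submodule.span_le.2 ?_) (Submodule.span_le.2 ?_)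
  · rintro _ ⟨j, hj, rfl⟩
    by_cases hja : j = a
    · subst hja
      rw [SetLike.mem_coe, ← sub_add_cancel (e j) ((c : R) • e' j)]
      exact add_mem (sB_mono e' (le_of_lt hj) (ha ▸ h)) (Submodule.smul_mem _ _ (mem_sB e' hj))
    · rw [SetLike.mem_coe, he j hja]; exact mem_sB e' hj
  · rintro _ ⟨j, hj, rfl⟩
    by_cases hja : j = a
    · subst hja
      have h1 : (c : R) • e' j ∈ sB e i := by
        rw [← sub_sub_self (e j) ((c : R) • e' j)]
        exact sub_mem (mem_sB e hj) (sB_mono e (le_of_lt hj) h)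
      have h2 := Submodule.smul_mem _ (↑c⁻¹ : R) h1
      rwa [smul_smul, Units.inv_mul, one_smul] at h2
    · rw [SetLike.mem_coe, ← he j hja]; exact mem_sB e hj

theorem phi_update {e e' : CycDet.Adm R M l} {a : Fin l} {c : Rˣ} (he : ∀ j, j ≠ a → e.1 j = e'.1 j)
    (h : e.1 a - (c : R) • e'.1 a ∈ sB e.1 a) : phi F e.1 = residue R (c : R) * phi F e'.1 := by
  classical
  have hG := sB_eq_update he h
  have hiff : ∀ i : Fin l, e.1 i ∈ sB e.1 i ↔ e'.1 i ∈ sB e'.1 i := fun i => by
    by_cases hia : i = a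
    · subst hia
      rw [← hG]
      refine ⟨fun h1 => ?_, fun h1 => ?_⟩
      · have h2 : (c : R) • e'.1 i ∈ sB e.1 i := by simpa using sub_mem h1 h
        have h3 := Submodule.smul_mem _ (↑c⁻¹ : R) h2
        rwa [smul_smul, Units.inv_mul, one_smul] at h3
      · simpa using add_mem h (Submodule.smul_mem _ (c : R) h1)
    · rw [hG, he i hia]
  by_cases hn : Nondeg (R := R) e'.1
  swap
  · rw [phi_of_deg F hn, mul_zero, phi_of_deg F fun hn' => hn fun i hi => hn' i ((hiff i).2 hi)]
  obtain ⟨σ, cc, hc⟩ := exists_pivots F hn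
  rw [phi_eq F σ cc hc, phi_eq F σ (Function.update cc a (residue R (c : R) * cc a)) fun i => ?_]
  · rw [Finset.prod_update_of_mem (Finset.mem_univ a), Finset.sdiff_singleton_eq_erase, ← Finset.mul_prod_erase Finset.univ cc (Finset.mem_univ a)]
    ring
  · by_cases hia : i = a
    · subst hia
      rw [Function.update_self]
      obtain ⟨⟨r, hr, hr'⟩, hno⟩ := hc i
      rw [← hG] at hr' hno
      refine ⟨⟨c * r, by rw [map_mul, hr], ?_⟩, fun h1 => hno ?_⟩
      · rw [show e.1 i - ((c : R) * r) • F.f.1 (σ i) = (e.1 i - (c : R) • e'.1 i) + (c : R) • (e'.1 i - r • F.f.1 (σ i)) by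
          rw [smul_sub, smul_smul]; abel]
        exact add_mem (Submodule.mem_sup_left h) (Submodule.smul_mem _ _ hr')
      · have h2 : (c : R) • e'.1 i ∈ sB e.1 i ⊔ sB F.f.1 (σ i) := by
          simpa using sub_mem h1 (Submodule.mem_sup_left (T := sB F.f.1 (σ i)) h)
        have h3 := Submodule.smul_mem _ (↑c⁻¹ : R) h2
        rwa [smul_smul, Units.inv_mul, one_smul] at h3
    · rw [Function.update_of_ne hia]
      exact piv_congr (hG i) (he i hia) (hc i)

theorem sB_swap {e : Fin l → M} {a b : Fin l} (hab : (b : ℕ) + 1 = a) {i : Fin l} (hi : i ≠ a) :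
    sB (e ∘ Equiv.swap a b) i = sB e i := by
  have key : ∀ j : Fin l, (j : ℕ) < i ↔ (Equiv.swap a b j : ℕ) < i := fun j => by
    have hia : (i : ℕ) ≠ a := fun h => hi (Fin.ext h)
    by_cases h1 : j = a
    · subst h1; rw [Equiv.swap_apply_left]; omega
    by_cases h2 : j = b
    · subst h2; rw [Equiv.swap_apply_right]; omega
    rw [Equiv.swap_apply_of_ne_of_ne h1 h2]
  rw [CycDet.spanBefore, CycDet.spanBefore, Set.image_comp]
  congr 2
  ext j
  constructor
  · rintro ⟨y, hy, rfl⟩; exact (key y).1 hy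
  · exact fun hj => ⟨Equiv.swap a b j, (key _).2 (by rw [Equiv.swap_apply_self]; exact hj), Equiv.swap_apply_self _ _ _⟩

theorem nondeg_of_swap {e : CycDet.Adm R M l} {a b : Fin l} (hab : (b : ℕ) + 1 = a)
    (hm : ∀ r ∈ maximalIdeal R, r • e.1 a ∈ sB e.1 b) (hn : Nondeg (R := R) (e.1 ∘ Equiv.swap a b)) :
    Nondeg (R := R) e.1 := by
  intro i hi
  have hne : a ≠ b := fun h => by rw [h] at hab; omega
  have hGb : sB (e.1 ∘ Equiv.swap a b) b = sB e.1 b := sB_swap hab hne.symm
  have hGa : sB (e.1 ∘ Equiv.swap a b) a = sB e.1 b ⊔ Submodule.span R {e.1 a} := by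
    rw [← hab, sB_succ, hGb, Function.comp_apply, Equiv.swap_apply_right]
  by_cases hia : i = a
  · subst hia
    rw [← hab, sB_succ, Submodule.mem_sup] at hi
    obtain ⟨g, hg, z, hz, hgz⟩ := hi
    obtain ⟨r, rfl⟩ := Submodule.mem_span_singleton.1 hz
    by_cases hr : IsUnit r
    · obtain ⟨u, rfl⟩ := hr
      refine hn i ?_
      rw [hGa, Function.comp_apply, Equiv.swap_apply_left]
      have h1 : (u : R) • e.1 b ∈ sB e.1 b ⊔ Submodule.span R {e.1 i} := by
        rw [show (u : R) • e.1 b = e.1 i - g by rw [← hgz]; abel]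
        exact sub_mem (Submodule.mem_sup_right (Submodule.mem_span_singleton_self _)) (Submodule.mem_sup_left hg)
      have h2 := Submodule.smul_mem _ (↑u⁻¹ : R) h1
      rwa [smul_smul, Units.inv_mul, one_smul] at h2
    · refine hn b ?_
      rw [hGb, Function.comp_apply, Equiv.swap_apply_right, ← hgz]
      exact add_mem hg (e.2 b r ((mem_maximalIdeal r).2 hr))
  by_cases hib : i = b
  · subst hib
    exact hn a (by rw [hGa, Function.comp_apply, Equiv.swap_apply_left]; exact Submodule.mem_sup_left hi)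
  · exact hn i (by rw [sB_swap hab hia, Function.comp_apply, Equiv.swap_apply_of_ne_of_ne hia hib]; exact hi)

theorem phi_swap {e e' : CycDet.Adm R M l} {a b : Fin l} (hab : (b : ℕ) + 1 = a)
    (hm : ∀ r ∈ maximalIdeal R, r • e.1 a ∈ sB e.1 b) (he : e'.1 = e.1 ∘ Equiv.swap a b) :
    phi F e.1 + phi F e'.1 = 0 := by
  classical
  have hne : a ≠ b := fun h => by rw [h] at hab; omega
  have hGb : sB e'.1 b = sB e.1 b := by rw [he]; exact sB_swap hab hne.symm
  have hb' : e'.1 b = e.1 a := by rw [he, Function.comp_apply, Equiv.swap_apply_right]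
  have ha' : e'.1 a = e.1 b := by rw [he, Function.comp_apply, Equiv.swap_apply_left]
  by_cases hn : Nondeg (R := R) e.1
  swap
  · rw [phi_of_deg F hn, phi_of_deg F fun h => hn (nondeg_of_swap hab hm (he ▸ h)), add_zero]
  obtain ⟨σ, c, hc⟩ := exists_pivots F hn
  have hoth : ∀ i, i ≠ a → i ≠ b → Piv F.f.1 e'.1 i (σ i) (c i) := fun i h1 h2 =>
    piv_congr (by rw [he]; exact sB_swap hab h1) (by rw [he, Function.comp_apply, Equiv.swap_apply_of_ne_of_ne h1 h2]) (hc i)
  have hGa : sB e'.1 a = sB e.1 b ⊔ Submodule.span R {e.1 a} := by rw [← hab, sB_succ, hGb, hb']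
  have hGa0 : sB e.1 a = sB e.1 b ⊔ Submodule.span R {e.1 b} := by rw [← hab, sB_succ]
  have pb := hc b
  have pa := hc a
  obtain ⟨⟨r, hr, hrm⟩, hbn⟩ := id pb
  obtain ⟨⟨s, hs, hsm⟩, han⟩ := id pa
  set k := σ b with hk
  set k' := σ a with hk'
  have hkne : k ≠ k' := fun h => hne (σ.injective h).symm
  let G := sB e.1 b
  let Fk := fun j : ℕ => sB F.f.1 j
  have hbk : e.1 b ∈ G ⊔ Fk ((k : ℕ) + 1) := piv_mem pb
  rw [hGa0] at hsm han
  -- the swapped pivots
  have caseA : (∀ x, x ∈ G ⊔ Submodule.span R {e.1 b} ⊔ Fk k' → e.1 a - s • F.f.1 k' = x → x ∈ G ⊔ Fk k') →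
      (∀ g' : M, g' ∈ G ⊔ Submodule.span R {e.1 a} ⊔ Fk k → e.1 b ≠ g') → phi F e.1 + phi F e'.1 = 0 := by
    intro h1 h2
    rw [phi_eq F σ c hc, phi_eq F (Equiv.swap a b |>.trans σ) (c ∘ Equiv.swap a b) fun i => ?_]
    · rw [show Equiv.Perm.sign ((Equiv.swap a b).trans σ) = -Equiv.Perm.sign σ by
          rw [show (Equiv.swap a b).trans σ = σ * Equiv.swap a b from rfl, map_mul, Equiv.Perm.sign_swap hne]; simp,
        show ∏ i, (c ∘ Equiv.swap a b) i = ∏ i, c i from Equiv.prod_comp (Equiv.swap a b) c]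
      simp
    · by_cases hia : i = a
      · subst hia
        rw [Equiv.trans_apply, Function.comp_apply, Equiv.swap_apply_left, ← hk]
        refine ⟨⟨r, hr, ?_⟩, fun h => h2 _ ?_ rfl⟩
        · rw [ha', hGa]
          exact (sup_le_sup_right (le_sup_left : G ≤ G ⊔ Submodule.span R {e.1 i}) (Fk k)) hrm
        · rw [ha', hGa] at h; exact h
      by_cases hib : i = b
      · subst hib
        rw [Equiv.trans_apply, Function.comp_apply, Equiv.swap_apply_right, ← hk']
        refine ⟨⟨s, hs, ?_⟩, fun h => han ?_⟩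
        · rw [hb', hGb]; exact h1 _ hsm rfl
        · rw [hb', hGb] at h
          exact (sup_le_sup_right (le_sup_left : G ≤ G ⊔ Submodule.span R {e.1 i}) (Fk k')) h
      · rw [Equiv.trans_apply, Function.comp_apply, Equiv.swap_apply_of_ne_of_ne hia hib]
        exact hoth i hia hib
  rcases lt_or_gt_of_ne hkne with hlt | hgt
  · -- the first pivot is lower
    have hbk' : e.1 b ∈ G ⊔ Fk k' := (sup_le_sup_left (sB_mono F.f.1 (Fin.lt_def.1 hlt)) G) hbk
    refine caseA (fun x hx _ => (sup_le (sup_le le_sup_left ((Submodule.span_singleton_le_iff_mem _ _).2 hbk')) le_sup_right) hx)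
      fun g' hg' hbg => ?_
    rw [← hbg, sup_right_comm, Submodule.mem_sup] at hg'
    obtain ⟨g, hg, z, hz, hgz⟩ := hg'
    obtain ⟨u, rfl⟩ := Submodule.mem_span_singleton.1 hz
    by_cases hu : IsUnit u
    · obtain ⟨u, rfl⟩ := hu
      have h1 : (u : R) • e.1 a ∈ G ⊔ Fk k' := by
        rw [show (u : R) • e.1 a = e.1 b - g by rw [← hgz]; abel]
        exact sub_mem hbk' ((sup_le_sup_left (sB_mono F.f.1 (Fin.lt_def.1 hlt).le) G) hg)
      have h2 := Submodule.smul_mem _ (↑u⁻¹ : R) h1
      rw [smul_smul, Units.inv_mul, one_smul] at h2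
      exact han ((sup_le_sup_right (le_sup_left : G ≤ G ⊔ Submodule.span R {e.1 b}) (Fk k')) h2)
    · refine hbn ?_
      rw [← hgz]
      exact add_mem hg (Submodule.mem_sup_left (hm u ((mem_maximalIdeal u).2 hu)))
  · -- the first pivot is higher
    have hle : G ⊔ Fk ((k' : ℕ) + 1) ≤ G ⊔ Fk k := sup_le_sup_left (sB_mono F.f.1 (Fin.lt_def.1 hgt)) G
    have hsm' := hsm
    rw [sup_right_comm, Submodule.mem_sup] at hsm'
    obtain ⟨g, hg, z, hz, hgz⟩ := hsm'
    obtain ⟨t, rfl⟩ := Submodule.mem_span_singleton.1 hz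
    have hsf : s • F.f.1 k' ∈ G ⊔ Fk k :=
      hle (Submodule.mem_sup_right (Submodule.smul_mem _ _ (mem_sB F.f.1 (Nat.lt_succ_self _))))
    have hg' : g ∈ G ⊔ Fk k := (sup_le_sup_left (sB_mono F.f.1 (Fin.lt_def.1 hgt).le) G) hg
    by_cases ht : IsUnit t
    swap
    · have ht' : t • e.1 b ∈ G := e.2 b t ((mem_maximalIdeal t).2 ht)
      have hak : e.1 a ∈ G ⊔ Fk k := by
        rw [← sub_add_cancel (e.1 a) (s • F.f.1 k'), ← hgz]
        exact add_mem (add_mem hg' (Submodule.mem_sup_left ht')) hsf
      refine caseA (fun x _ hx => hx ▸ hgz ▸ add_mem hg (Submodule.mem_sup_left ht')) fun g'' hg'' hbg => ?_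
      rw [← hbg, sup_right_comm] at hg''
      exact hbn ((sup_le le_rfl ((Submodule.span_singleton_le_iff_mem _ _).2 hak)) hg'')
    obtain ⟨t, rfl⟩ := ht
    -- equal pivots, new coefficients
    rw [phi_eq F σ c hc, phi_eq F σ (Function.update (Function.update c b (residue R (t : R) * c b)) a
      (-(residue R (↑t⁻¹ : R)) * c a)) fun i => ?_]
    · let w := Function.update (Function.update c b (residue R (t : R) * c b)) a (-(residue R (↑t⁻¹ : R)) * c a)
      have hrem : ∀ z : Fin l → κ, ∏ i, z i = z a * (z b * ∏ i ∈ (Finset.univ.erase a).erase b, z i) := fun z => by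
        rw [Finset.mul_prod_erase _ z (Finset.mem_erase.2 ⟨hne.symm, Finset.mem_univ b⟩),
          Finset.mul_prod_erase _ z (Finset.mem_univ a)]
      have hwa : w a = -(residue R (↑t⁻¹ : R)) * c a := Function.update_self _ _ _
      have hwb : w b = residue R (t : R) * c b :=
        (Function.update_of_ne hne.symm _ _).trans (Function.update_self _ _ _)
      have hwi : ∏ i ∈ (Finset.univ.erase a).erase b, w i = ∏ i ∈ (Finset.univ.erase a).erase b, c i :=
        Finset.prod_congr rfl fun i hi => by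
          simp only [Finset.mem_erase] at hi
          exact (Function.update_of_ne hi.2.1 _ _).trans (Function.update_of_ne hi.1 _ _)
      rw [hrem c, show ∏ i, Function.update (Function.update c b (residue R (t : R) * c b)) a _ i = _ from hrem w, hwa, hwb, hwi]
      have h1 : residue R (↑t⁻¹ : R) * residue R (t : R) = 1 := by rw [← map_mul, Units.inv_mul, map_one]
      linear_combination -(((Equiv.Perm.sign σ : ℤ) : κ) * c a * c b * ∏ i ∈ (Finset.univ.erase a).erase b, c i) * h1
    · by_cases hia : i = a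
      · subst hia
        rw [Function.update_self, ← hk']
        refine ⟨⟨-(↑t⁻¹ * s), by rw [map_neg, map_mul, hs]; ring, ?_⟩, fun h => ?_⟩
        · rw [ha', hGa]
          have h1 : e.1 b - (-(↑t⁻¹ * s) : R) • F.f.1 k' = (↑t⁻¹ : R) • (e.1 i - g) := by
            rw [show e.1 i - g = s • F.f.1 k' + (t : R) • e.1 b by
              rw [← sub_add_cancel (e.1 i) (s • F.f.1 k'), ← hgz]; abel, smul_add, smul_smul, smul_smul, Units.inv_mul,
              one_smul, neg_smul, sub_neg_eq_add, add_comm]
          rw [h1]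
          refine Submodule.smul_mem _ _ (sub_mem (Submodule.mem_sup_left (Submodule.mem_sup_right
            (Submodule.mem_span_singleton_self _))) ?_)
          exact (sup_le_sup_right (le_sup_left : G ≤ G ⊔ Submodule.span R {e.1 i}) (Fk k')) hg
        · rw [ha', hGa, sup_right_comm, Submodule.mem_sup] at h
          obtain ⟨g₂, hg₂, z₂, hz₂, hgz₂⟩ := h
          obtain ⟨u, rfl⟩ := Submodule.mem_span_singleton.1 hz₂
          by_cases hu : IsUnit u
          · obtain ⟨u, rfl⟩ := hu
            have h1 : (u : R) • e.1 i ∈ G ⊔ Submodule.span R {e.1 b} ⊔ Fk k' := by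
              rw [show (u : R) • e.1 i = e.1 b - g₂ by rw [← hgz₂]; abel]
              exact sub_mem (Submodule.mem_sup_left (Submodule.mem_sup_right (Submodule.mem_span_singleton_self _)))
                ((sup_le_sup_right (le_sup_left : G ≤ G ⊔ Submodule.span R {e.1 b}) (Fk k')) hg₂)
            have h2 := Submodule.smul_mem _ (↑u⁻¹ : R) h1
            rw [smul_smul, Units.inv_mul, one_smul] at h2
            exact han h2
          · refine hbn ?_
            rw [← hgz₂]
            exact add_mem ((sup_le_sup_left (sB_mono F.f.1 (Fin.lt_def.1 hgt).le) G) hg₂)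
              (Submodule.mem_sup_left (hm u ((mem_maximalIdeal u).2 hu)))
      by_cases hib : i = b
      · subst hib
        rw [Function.update_of_ne hia, Function.update_self, ← hk]
        refine ⟨⟨(t : R) * r, by rw [map_mul, hr], ?_⟩, fun h => hbn ?_⟩
        · rw [hb', hGb, show e.1 a - ((t : R) * r) • F.f.1 k = g + s • F.f.1 k' + (t : R) • (e.1 i - r • F.f.1 k) by
            rw [smul_sub, smul_smul, ← sub_add_cancel (e.1 a) (s • F.f.1 k'), ← hgz]; abel]
          exact add_mem (add_mem hg' hsf) (Submodule.smul_mem _ _ hrm)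
        · rw [hb', hGb] at h
          have h1 : (t : R) • e.1 i ∈ G ⊔ Fk k := by
            rw [show (t : R) • e.1 i = e.1 a - s • F.f.1 k' - g by rw [← hgz]; abel]
            exact sub_mem (sub_mem h hsf) hg'
          have h2 := Submodule.smul_mem _ (↑t⁻¹ : R) h1
          rwa [smul_smul, Units.inv_mul, one_smul] at h2
      · rw [Function.update_of_ne hia, Function.update_of_ne hib]
        exact hoth i hia hib

/-- The functional on the space of symbols. -/
noncomputable def phiLin : CycDet.DetOfLen R M l →ₗ[κ] κ :=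
  Submodule.liftQ _ (Finsupp.linearCombination κ fun e : CycDet.Adm R M l => phi F e.1) (by
    rw [Submodule.span_le]
    rintro x ((⟨e, a, ha, rfl⟩ | ⟨e, e', a, c, he, ha, rfl⟩) | ⟨e, e', a, b, hab, hm, he, rfl⟩) <;>
      simp only [SetLike.mem_coe, LinearMap.mem_ker, CycDet.sym, map_sub, map_add, map_smul,
        Finsupp.linearCombination_single, one_smul]
    · exact phi_of_deg F fun hn => hn a ha
    · rw [phi_update F he ha, smul_eq_mul, sub_self]
    · exact phi_swap F hab hm he)

theorem phiLin_sym (e : CycDet.Adm R M l) : phiLin F (Submodule.Quotient.mk (CycDet.sym R M e)) = phi F e.1 := by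
  simp [phiLin, CycDet.sym]

theorem mk_eq_update {e e' : CycDet.Adm R M l} {a : Fin l} {c : Rˣ} (he : ∀ j, j ≠ a → e.1 j = e'.1 j)
    (h : e.1 a - (c : R) • e'.1 a ∈ sB e.1 a) :
    (Submodule.Quotient.mk (CycDet.sym R M e) : CycDet.DetOfLen R M l) =
      residue R (c : R) • Submodule.Quotient.mk (CycDet.sym R M e') := by
  rw [← Submodule.Quotient.mk_smul, Submodule.Quotient.eq]
  exact Submodule.subset_span (Or.inl (Or.inr ⟨e, e', a, c, he, h, rfl⟩))

theorem mk_eq_zero {e : CycDet.Adm R M l} (h : ¬ Nondeg (R := R) e.1) :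
    (Submodule.Quotient.mk (CycDet.sym R M e) : CycDet.DetOfLen R M l) = 0 := by
  simp only [Nondeg, not_forall, not_not] at h
  obtain ⟨a, ha⟩ := h
  rw [Submodule.Quotient.mk_eq_zero]
  exact Submodule.subset_span (Or.inl (Or.inl ⟨e, a, ha, rfl⟩))

theorem adm_swap {e : CycDet.Adm R M l} {a b : Fin l} (hab : (b : ℕ) + 1 = a)
    (hm : ∀ r ∈ maximalIdeal R, r • e.1 a ∈ sB e.1 b) : CycDet.IsAdmissible R M (e.1 ∘ Equiv.swap a b) := by
  have hne : a ≠ b := fun h => by rw [h] at hab; omega
  intro i r hr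
  by_cases hia : i = a
  · subst hia
    rw [Function.comp_apply, Equiv.swap_apply_left, ← hab, sB_succ]
    exact Submodule.mem_sup_left (by rw [sB_swap hab hne.symm]; exact e.2 b r hr)
  rw [sB_swap hab hia]
  by_cases hib : i = b
  · subst hib
    rw [Function.comp_apply, Equiv.swap_apply_right]; exact hm r hr
  · rw [Function.comp_apply, Equiv.swap_apply_of_ne_of_ne hia hib]; exact e.2 i r hr

/-- Every symbol is a multiple of the symbol of the reference tuple. -/
theorem mem_span_sym : ∀ (d : ℕ) (e : CycDet.Adm R M l) (n : ℕ), n + d = l → (∀ j : Fin l, (j : ℕ) < n → e.1 j = F.f.1 j) →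
    (Submodule.Quotient.mk (CycDet.sym R M e) : CycDet.DetOfLen R M l) ∈
      Submodule.span κ {Submodule.Quotient.mk (CycDet.sym R M F.f)} := by
  intro d
  induction d with
  | zero =>
    intro e n hn he
    rw [show e = F.f from Subtype.ext (funext fun j => he j (by omega))]
    exact Submodule.mem_span_singleton_self _
  | succ d ih =>
    intro e n hn he
    -- move the reference entry down to position `n`
    have move : ∀ (t : ℕ) (e : CycDet.Adm R M l), (∀ j : Fin l, (j : ℕ) < n → e.1 j = F.f.1 j) →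
        (∃ i : Fin l, (i : ℕ) = n + t ∧ e.1 i = F.f.1 ⟨n, by omega⟩) →
        (Submodule.Quotient.mk (CycDet.sym R M e) : CycDet.DetOfLen R M l) ∈
          Submodule.span κ {Submodule.Quotient.mk (CycDet.sym R M F.f)} := by
      intro t
      induction t with
      | zero =>
        rintro e he ⟨i, hi, hei⟩
        refine ih e (n + 1) (by omega) fun j hj => ?_
        rcases Nat.lt_or_ge (j : ℕ) n with h | h
        · exact he j h
        · rw [show j = i from Fin.ext (by omega), hei]
          exact congrArg F.f.1 (Fin.ext (by simp; omega))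
      | succ t iht =>
        rintro e he ⟨i, hi, hei⟩
        let b : Fin l := ⟨n + t, by omega⟩
        have hab : (b : ℕ) + 1 = i := by simp [b]; omega
        have hm : ∀ r ∈ maximalIdeal R, r • e.1 i ∈ sB e.1 b := fun r hr => by
          rw [hei]
          refine sB_mono e.1 (show n ≤ (b : ℕ) by simp [b]) ?_
          rw [sB_congr (e' := F.f.1) (fun j hj => he j hj)]
          exact F.f.2 ⟨n, by omega⟩ r hr
        let e' : CycDet.Adm R M l := ⟨e.1 ∘ Equiv.swap i b, adm_swap hab hm⟩
        have hrel : (Submodule.Quotient.mk (CycDet.sym R M e) : CycDet.DetOfLen R M l) +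
            Submodule.Quotient.mk (CycDet.sym R M e') = 0 := by
          rw [← Submodule.Quotient.mk_add, Submodule.Quotient.mk_eq_zero]
          exact Submodule.subset_span (Or.inr ⟨e, e', i, b, hab, hm, rfl, rfl⟩)
        rw [eq_neg_of_add_eq_zero_left hrel]
        refine neg_mem (iht e' (fun j hj => ?_) ⟨b, rfl, ?_⟩)
        · show e.1 (Equiv.swap i b j) = _
          rw [Equiv.swap_apply_of_ne_of_ne (fun h => by rw [h] at hj; omega)
            (fun h => by rw [h] at hj; simp [b] at hj)]
          exact he j hj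
        · show e.1 (Equiv.swap i b b) = _
          rw [Equiv.swap_apply_right, hei]
    by_cases hnd : Nondeg (R := R) e.1
    swap
    · rw [mk_eq_zero hnd]; exact zero_mem _
    obtain ⟨σ, c, hc⟩ := exists_pivots F hnd
    let k : Fin l := ⟨n, by omega⟩
    set i := σ.symm k with hi
    have hp := hc i
    rw [hi, Equiv.apply_symm_apply, ← hi] at hp
    have hin : n ≤ (i : ℕ) := by
      by_contra hlt
      rw [not_le] at hlt
      refine hp.2 (Submodule.mem_sup_right ?_)
      rw [he i hlt]
      exact mem_sB _ hlt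
    have hFG : sB F.f.1 k ≤ sB e.1 i := by
      rw [sB_congr (e' := e.1) (fun j hj => (he j hj).symm)]
      exact sB_mono _ hin
    obtain ⟨⟨r, hr, hrm⟩, -⟩ := id hp
    rw [sup_eq_left.2 hFG] at hrm
    have hru : IsUnit r := by
      by_contra hn'
      exact piv_ne_zero F.f.2 hp (hr ▸ (residue_eq_zero_iff r).2 ((mem_maximalIdeal r).2 hn'))
    obtain ⟨u, rfl⟩ := hru
    have hlt' : ∀ j : Fin l, (j : ℕ) < i → Function.update e.1 i (F.f.1 k) j = e.1 j := fun j hj =>
      Function.update_of_ne (fun h => by rw [h] at hj; omega) _ _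
    have hagree : ∀ j, j ≠ i → e.1 j = Function.update e.1 i (F.f.1 k) j := fun j hj => (Function.update_of_ne hj _ _).symm
    have hmem : e.1 i - (u : R) • Function.update e.1 i (F.f.1 k) i ∈ sB e.1 i := by rwa [Function.update_self]
    have hadm : CycDet.IsAdmissible R M (Function.update e.1 i (F.f.1 k)) := fun j r hr => by
      by_cases hji : j = i
      · subst hji
        rw [Function.update_self, sB_congr hlt']
        exact hFG (F.f.2 k r hr)
      · rw [Function.update_of_ne hji, ← sB_eq_update hagree hmem]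
        exact e.2 j r hr
    rw [mk_eq_update (e' := ⟨_, hadm⟩) hagree hmem]
    refine Submodule.smul_mem _ _ (move ((i : ℕ) - n) _ (fun j hj => ?_) ⟨i, by omega, Function.update_self i _ _⟩)
    show Function.update e.1 i (F.f.1 k) j = _
    rw [hlt' j (by omega), he j hj]

theorem sym_eq_smul (hF : Nondeg (R := R) F.f.1) (e : CycDet.Adm R M l) :
    (Submodule.Quotient.mk (CycDet.sym R M e) : CycDet.DetOfLen R M l) =
      phi F e.1 • Submodule.Quotient.mk (CycDet.sym R M F.f) := by
  obtain ⟨a, ha⟩ := Submodule.mem_span_singleton.1 (mem_span_sym F l e 0 (by omega) fun j hj => absurd hj (Nat.not_lt_zero _))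
  have := congrArg (phiLin F) ha
  rw [map_smul, phiLin_sym, phiLin_sym, phi_self F hF, smul_eq_mul, mul_one] at this
  rw [← ha, this]

end CycDetLib
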