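import Groth.Agent.CycDetLib.Exists

/-! # Trivialisations of the determinant -/

set_option autoImplicit false
set_option linter.style.haveILetI false

universe u v

open IsLocalRing

namespace CycDetLib

variable {R : Type u} [CommRing R] [IsLocalRing R] {M : Type v} [AddCommGroup M] [Module R M] {l : ℕ}

local notation "κ" => IsLocalRing.ResidueField R

theorem linearMap_ext {N : Type*} [AddCommGroup N] [Module κ N] {f g : CycDet.DetOfLen R M l →ₗ[κ] N}
    (h : ∀ e, f (Submodule.Quotient.mk (CycDet.sym R M e)) = g (Submodule.Quotient.mk (CycDet.sym R M e))) : f = g := by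
  refine Submodule.linearMap_qext _ (Finsupp.lhom_ext fun e a => ?_)
  have h1 : (Finsupp.single e a : CycDet.Free R M l) = a • CycDet.sym R M e := by simp [CycDet.sym]
  simp only [LinearMap.comp_apply, Submodule.mkQ_apply, h1, Submodule.Quotient.mk_smul, map_smul, h]

/-- The trivialisation by a reference tuple. -/
noncomputable def detEquiv (F : Ref R M l) (hF : Nondeg (R := R) F.f.1) : CycDet.DetOfLen R M l ≃ₗ[κ] κ :=
  LinearEquiv.ofLinearMap (phiLin F) (LinearMap.toSpanSingleton κ _ (Submodule.Quotient.mk (CycDet.sym R M F.f)))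
    (LinearMap.ext_ring (by
      simp only [LinearMap.comp_apply, LinearMap.toSpanSingleton_apply, one_smul, LinearMap.id_apply, phiLin_sym, phi_self F hF]))
    (linearMap_ext fun e => by
      simp only [LinearMap.comp_apply, LinearMap.toSpanSingleton_apply, LinearMap.id_apply, phiLin_sym]
      exact (sym_eq_smul F hF e).symm)

theorem detEquiv_sym (F : Ref R M l) (hF : Nondeg (R := R) F.f.1) (e : CycDet.Adm R M l) :
    detEquiv F hF (Submodule.Quotient.mk (CycDet.sym R M e)) = phi F e.1 := phiLin_sym F e

theorem detEquiv_symm (F : Ref R M l) (hF : Nondeg (R := R) F.f.1) (a : κ) :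
    (detEquiv F hF).symm a = a • Submodule.Quotient.mk (CycDet.sym R M F.f) := rfl

end CycDetLib
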