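import Groth.Agent.CycDetLib.Det
import Mathlib.RingTheory.SimpleModule.Basic
import Mathlib.RingTheory.Ideal.AssociatedPrime.Basic

/-! # Admissible generating tuples exist -/

set_option autoImplicit false
set_option linter.style.haveILetI false

universe u v

open IsLocalRing

namespace CycDetLib

variable {R : Type u} [CommRing R] [IsLocalRing R] {M : Type v} [AddCommGroup M] [Module R M] {l : ℕ}

local notation "sB" => CycDet.spanBefore R M

/-- Adjoining an element killed into the submodule by the maximal ideal adds one to the length. -/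
theorem length_step {G : Submodule R M} {e : M} (he : e ∉ G) (hm : ∀ r ∈ maximalIdeal R, r • e ∈ G) :
    Module.length R (↥(G ⊔ Submodule.span R {e})) = Module.length R G + 1 := by
  set G' := G ⊔ Submodule.span R {e}
  have hle : G ≤ G' := le_sup_left
  let ψ : R →ₗ[R] (↥G' ⧸ LinearMap.range (Submodule.inclusion hle)) :=
    (LinearMap.range (Submodule.inclusion hle)).mkQ.comp
      (LinearMap.toSpanSingleton R G' ⟨e, Submodule.mem_sup_right (Submodule.mem_span_singleton_self e)⟩)
  have hψ : ∀ r : R, ψ r = 0 ↔ r • e ∈ G := fun r => by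
    simp only [ψ, LinearMap.comp_apply, Submodule.mkQ_apply, Submodule.Quotient.mk_eq_zero, LinearMap.toSpanSingleton_apply]
    exact ⟨fun ⟨g, hg⟩ => by rw [show r • e = (g : M) from (congrArg Subtype.val hg).symm]; exact g.2,
      fun h => ⟨⟨_, h⟩, rfl⟩⟩
  have hker : LinearMap.ker ψ = maximalIdeal R := by
    refine le_antisymm (IsLocalRing.le_maximalIdeal fun h => he ?_) fun r hr => (hψ r).2 (hm r hr)
    have : (1 : R) ∈ LinearMap.ker ψ := h ▸ Submodule.mem_top
    simpa using (hψ 1).1 this
  have hsurj : Function.Surjective ψ := by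
    intro z
    obtain ⟨⟨z, hz⟩, rfl⟩ := Submodule.mkQ_surjective _ z
    obtain ⟨g, hg, w, hw, rfl⟩ := Submodule.mem_sup.1 hz
    obtain ⟨r, rfl⟩ := Submodule.mem_span_singleton.1 hw
    refine ⟨r, ((Submodule.Quotient.eq _).2 ⟨⟨-g, G.neg_mem hg⟩, Subtype.ext ?_⟩)⟩
    show -g = r • e - (g + r • e)
    abel
  have hsimple : IsSimpleModule R (↥G' ⧸ LinearMap.range (Submodule.inclusion hle)) :=
    isSimpleModule_iff_quot_maximal.2 ⟨maximalIdeal R, inferInstance,
      ⟨(ψ.quotKerEquivOfSurjective hsurj).symm.trans (Submodule.quotEquivOfEq _ _ hker)⟩⟩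
  rw [Module.length_eq_add_of_exact (Submodule.inclusion hle) (LinearMap.range (Submodule.inclusion hle)).mkQ
    (Submodule.inclusion_injective hle) (Submodule.mkQ_surjective _) (LinearMap.exact_map_mkQ_range _),
    Module.length_eq_one_iff.2 hsimple]

theorem length_sB_le (e : CycDet.Adm R M l) : ∀ i : ℕ, i ≤ l → Module.length R (sB e.1 i) ≤ (i : ℕ∞)
  | 0, _ => by rw [sB_zero, Module.length_bot]; simp
  | i + 1, hi => by
    have ih := length_sB_le e i (by omega)
    rw [show i + 1 = ((⟨i, hi⟩ : Fin l) : ℕ) + 1 from rfl, sB_succ]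
    by_cases h : e.1 ⟨i, hi⟩ ∈ sB e.1 i
    · rw [sup_eq_left.2 ((Submodule.span_singleton_le_iff_mem _ _).2 h)]
      exact ih.trans (by exact_mod_cast Nat.le_succ i)
    · rw [length_step h (e.2 ⟨i, hi⟩)]
      push_cast
      exact add_le_add ih le_rfl

theorem length_sB_eq {e : CycDet.Adm R M l} (hn : Nondeg (R := R) e.1) : ∀ i : ℕ, i ≤ l → Module.length R (sB e.1 i) = (i : ℕ∞)
  | 0, _ => by rw [sB_zero, Module.length_bot]; simp
  | i + 1, hi => by
    rw [show i + 1 = ((⟨i, hi⟩ : Fin l) : ℕ) + 1 from rfl, sB_succ, length_step (hn ⟨i, hi⟩) (e.2 ⟨i, hi⟩),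
      length_sB_eq hn i (by omega)]
    push_cast; rfl

theorem nondeg_of_span {e : CycDet.Adm R M l} (hl : Module.length R M = (l : ℕ∞))
    (he : Submodule.span R (Set.range e.1) = ⊤) : Nondeg (R := R) e.1 := by
  intro a ha
  have key : ∀ i : ℕ, (a : ℕ) < i → i ≤ l → Module.length R (sB e.1 i) + 1 ≤ (i : ℕ∞) := by
    intro i hai
    induction i, hai using Nat.le_induction with
    | base =>
      intro _
      rw [sB_succ, sup_eq_left.2 ((Submodule.span_singleton_le_iff_mem _ _).2 ha)]
      push_cast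
      exact add_le_add (length_sB_le e a a.2.le) le_rfl
    | succ i hi ih =>
      intro hil
      refine le_trans ?_ (show (i : ℕ∞) + 1 ≤ ((i + 1 : ℕ) : ℕ∞) by push_cast; rfl)
      refine add_le_add ?_ le_rfl
      rw [show i + 1 = ((⟨i, by omega⟩ : Fin l) : ℕ) + 1 from rfl, sB_succ]
      by_cases h : e.1 ⟨i, by omega⟩ ∈ sB e.1 i
      · rw [sup_eq_left.2 ((Submodule.span_singleton_le_iff_mem _ _).2 h)]
        exact le_self_add.trans (ih (by omega))
      · rw [length_step h (e.2 ⟨i, by omega⟩)]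
        exact ih (by omega)
  have h1 := key l a.2 le_rfl
  rw [sB_len e.1 le_rfl, he, Module.length_top, hl] at h1
  exact absurd h1 (by exact_mod_cast Nat.not_succ_le_self l)

theorem exists_ref (h : IsFiniteLength R M) (hl : Module.length R M = (l : ℕ∞)) :
    ∃ F : Ref R M l, Nondeg (R := R) F.f.1 := by
  obtain ⟨hN, hA⟩ := isFiniteLength_iff_isNoetherian_isArtinian.1 h
  -- partial reference tuples
  have key : ∀ k : ℕ, k ≤ l → ∃ g : CycDet.Adm R M k, Nondeg (R := R) g.1 := by
    intro k
    induction k with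
    | zero => exact fun _ => ⟨⟨Fin.elim0, fun i => i.elim0⟩, fun i => i.elim0⟩
    | succ k ih =>
      intro hk
      obtain ⟨g, hg⟩ := ih (by omega)
      set G := sB g.1 k
      have hlen := length_sB_eq hg k le_rfl
      haveI : Nontrivial (M ⧸ G) := Submodule.Quotient.nontrivial_iff.2 fun hG => by
        change Module.length R G = _ at hlen
        rw [hG, Module.length_top, hl] at hlen
        have : l = k := by exact_mod_cast hlen
        omega
      -- an element of the socle
      obtain ⟨A, hA⟩ := IsArtinian.set_has_minimal {A : Submodule R (M ⧸ G) | A ≠ ⊥} ⟨⊤, top_ne_bot⟩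
      obtain ⟨hA0, hAmin⟩ := hA
      obtain ⟨z, hz, hz0⟩ := Submodule.exists_mem_ne_zero_of_ne_bot hA0
      have hsoc : ∀ r ∈ maximalIdeal R, r • z = 0 := by
        intro r hr
        by_contra hne
        have hle : Submodule.span R {r • z} ≤ A := (Submodule.span_singleton_le_iff_mem _ _).2 (A.smul_mem r hz)
        have heq : Submodule.span R {r • z} = A := eq_of_le_of_not_lt hle
          (hAmin _ (by simpa [Submodule.span_singleton_eq_bot] using hne))
        obtain ⟨s, hs⟩ := Submodule.mem_span_singleton.1 (show z ∈ Submodule.span R {r • z} from heq ▸ hz)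
        rw [smul_smul] at hs
        have hu : IsUnit (1 - s * r) :=
          IsLocalRing.isUnit_one_sub_self_of_mem_nonunits _ ((mem_maximalIdeal _).1 (Ideal.mul_mem_left _ s hr))
        refine hz0 (hu.smul_eq_zero.1 ?_)
        rw [sub_smul, one_smul, hs, sub_self]
      obtain ⟨x, rfl⟩ := Submodule.mkQ_surjective G z
      have hx : x ∉ G := fun hx => hz0 ((Submodule.Quotient.mk_eq_zero G).2 hx)
      have hxm : ∀ r ∈ maximalIdeal R, r • x ∈ G := fun r hr => by
        rw [← Submodule.Quotient.mk_eq_zero, Submodule.Quotient.mk_smul]; exact hsoc r hr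
      have hlow : ∀ i : ℕ, i ≤ k → sB (Fin.snoc g.1 x : Fin (k + 1) → M) i = sB g.1 i := by
        intro i hi
        refine le_antisymm (Submodule.span_le.2 ?_) (Submodule.span_le.2 ?_)
        · rintro _ ⟨j, hj, rfl⟩
          obtain ⟨j, rfl⟩ : ∃ j' : Fin k, j'.castSucc = j := ⟨⟨j, lt_of_lt_of_le hj hi⟩, rfl⟩
          rw [SetLike.mem_coe, Fin.snoc_castSucc]
          exact mem_sB g.1 hj
        · rintro _ ⟨j, hj, rfl⟩
          rw [SetLike.mem_coe, ← Fin.snoc_castSucc (α := fun _ => M) (p := g.1) (x := x)]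
          exact mem_sB _ hj
      refine ⟨⟨Fin.snoc g.1 x, fun i => ?_⟩, fun i => ?_⟩
      · rw [hlow i (Nat.lt_succ_iff.1 i.2)]
        refine Fin.lastCases ?_ (fun j => ?_) i
        · rw [Fin.snoc_last]; exact hxm
        · rw [Fin.snoc_castSucc]; exact g.2 j
      · show (Fin.snoc g.1 x : Fin (k + 1) → M) i ∉ sB (Fin.snoc g.1 x) i
        rw [hlow i (Nat.lt_succ_iff.1 i.2)]
        refine Fin.lastCases ?_ (fun j => ?_) i
        · rw [Fin.snoc_last]; exact hx
        · rw [Fin.snoc_castSucc]; exact hg j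
  obtain ⟨g, hg⟩ := key l le_rfl
  refine ⟨⟨g, ?_⟩, hg⟩
  by_contra hne
  have h1 := Submodule.length_lt hne
  rw [← sB_len g.1 le_rfl, length_sB_eq hg l le_rfl, hl] at h1
  exact lt_irrefl _ h1

theorem exists_ref_toNat (h : IsFiniteLength R M) :
    ∃ F : Ref R M (Module.length R M).toNat, Nondeg (R := R) F.f.1 :=
  exists_ref h (ENat.coe_toNat (Module.length_ne_top_iff.2 h)).symm

theorem span_eq_top_of_phi_ne_zero (F : Ref R M l) {e : Fin l → M} (h : phi F e ≠ 0) :
    Submodule.span R (Set.range e) = ⊤ := by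
  have hn : Nondeg (R := R) e := by
    by_contra hn
    exact h (phi_of_deg F hn)
  obtain ⟨σ, c, hc⟩ := exists_pivots F hn
  have key : ∀ k : ℕ, k ≤ l → sB F.f.1 k ≤ Submodule.span R (Set.range e) := by
    intro k
    induction k with
    | zero => intro _; rw [sB_zero]; exact bot_le
    | succ k ih =>
      intro hk
      rw [show k + 1 = ((⟨k, hk⟩ : Fin l) : ℕ) + 1 from rfl, sB_succ]
      refine sup_le (ih (by omega)) ((Submodule.span_singleton_le_iff_mem _ _).2 ?_)
      set i := σ.symm ⟨k, hk⟩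
      have hp := hc i
      rw [show σ i = ⟨k, hk⟩ from Equiv.apply_symm_apply _ _] at hp
      have hr0 := piv_ne_zero F.f.2 hp
      obtain ⟨⟨r, hr, hrm⟩, -⟩ := hp
      obtain ⟨u, rfl⟩ : IsUnit r := by
        by_contra hn'
        exact hr0 (hr ▸ (residue_eq_zero_iff r).2 ((mem_maximalIdeal r).2 hn'))
      have h1 : sB e i ⊔ sB F.f.1 k ≤ Submodule.span R (Set.range e) :=
        sup_le (Submodule.span_mono (Set.image_subset_range _ _)) (ih (by omega))
      have h2 := sub_mem (Submodule.subset_span (Set.mem_range_self i)) (h1 hrm)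
      rw [sub_sub_cancel] at h2
      have h3 := Submodule.smul_mem _ (↑u⁻¹ : R) h2
      rwa [smul_smul, Units.inv_mul, one_smul] at h3
  rw [eq_top_iff, ← F.span_eq, ← sB_len F.f.1 le_rfl]
  exact key l le_rfl

end CycDetLib
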