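import Groth.Agent.CycDetLib.Equiv
import Mathlib.Algebra.BigOperators.Fin
import Mathlib.Logic.Equiv.Fin.Basic

/-! # Determinants and short exact sequences -/

set_option autoImplicit false
set_option linter.style.haveILetI false

universe u

open IsLocalRing

namespace CycDetLib

variable {R : Type u} [CommRing R] [IsLocalRing R] {K L M : Type u} [AddCommGroup K] [Module R K]
  [AddCommGroup L] [Module R L] [AddCommGroup M] [Module R M] {p q n : ℕ}
  (f : K →ₗ[R] L) (g : L →ₗ[R] M) (hn : p + q = n)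

local notation "κ" => IsLocalRing.ResidueField R

/-- A tuple of `L` lying over tuples of `K` and `M`. -/
structure Over' (a : Fin p → K) (b : Fin q → M) (e : Fin n → L) : Prop where
  left : ∀ i : Fin p, e (Fin.cast hn (Fin.castAdd q i)) = f (a i)
  right : ∀ j : Fin q, g (e (Fin.cast hn (Fin.natAdd p j))) = b j

variable {f g hn} {a : Fin p → K} {b : Fin q → M} {e : Fin n → L}

theorem sB_left (h : Over' f g hn a b e) {i : ℕ} (hi : i ≤ p) :
    CycDet.spanBefore R L e i = (CycDet.spanBefore R K a i).map f := by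
  rw [CycDet.spanBefore, CycDet.spanBefore, Submodule.map_span, ← Set.image_comp]
  congr 1
  ext x
  constructor
  · rintro ⟨j, hj, rfl⟩
    have hj' : (j : ℕ) < i := hj
    refine ⟨⟨j, by omega⟩, hj', ?_⟩
    show f (a _) = _
    rw [← h.left]
    exact congrArg e (Fin.ext (by simp))
  · rintro ⟨j, hj, rfl⟩
    exact ⟨Fin.cast hn (Fin.castAdd q j), by simpa using hj, h.left j⟩

theorem map_sB_right (h : Over' f g hn a b e) (hfg : LinearMap.range f = LinearMap.ker g) (j : ℕ) :
    (CycDet.spanBefore R L e (p + j)).map g = CycDet.spanBefore R M b j := by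
  refine le_antisymm ?_ (Submodule.span_le.2 ?_)
  · rw [CycDet.spanBefore, Submodule.map_span, Submodule.span_le]
    rintro _ ⟨_, ⟨k, hk, rfl⟩, rfl⟩
    have hk' : (k : ℕ) < p + j := hk
    by_cases hkp : (k : ℕ) < p
    · rw [show k = Fin.cast hn (Fin.castAdd q ⟨k, hkp⟩) from Fin.ext (by simp), h.left]
      have : g (f (a ⟨k, hkp⟩)) = 0 := LinearMap.mem_ker.1 (hfg ▸ LinearMap.mem_range_self f _)
      rw [this]; exact zero_mem _
    · have hkn : (k : ℕ) < n := k.2
      rw [show k = Fin.cast hn (Fin.natAdd p ⟨(k : ℕ) - p, by omega⟩) from Fin.ext (by simp; omega), h.right]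
      exact mem_sB b (show (k : ℕ) - p < j by omega)
  · rintro _ ⟨k, hk, rfl⟩
    exact ⟨e (Fin.cast hn (Fin.natAdd p k)), mem_sB e (show p + (k : ℕ) < p + j by
      have hk' : (k : ℕ) < j := hk
      omega), h.right k⟩

theorem sB_right (h : Over' f g hn a b e) (hfg : LinearMap.range f = LinearMap.ker g)
    (ha : Submodule.span R (Set.range a) = ⊤) (j : ℕ) :
    CycDet.spanBefore R L e (p + j) = (CycDet.spanBefore R M b j).comap g := by
  rw [← map_sB_right h hfg j, Submodule.comap_map_eq, sup_eq_left.2]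
  rw [← hfg, LinearMap.range_eq_map, ← ha, ← sB_len a le_rfl, ← sB_left h le_rfl]
  exact sB_mono e (Nat.le_add_right _ _)

theorem adm_of_over (h : Over' f g hn a b e) (hfg : LinearMap.range f = LinearMap.ker g)
    (hspan : Submodule.span R (Set.range a) = ⊤) (ha : CycDet.IsAdmissible R K a) (hb : CycDet.IsAdmissible R M b) :
    CycDet.IsAdmissible R L e := by
  intro i r hr
  by_cases hip : (i : ℕ) < p
  · obtain ⟨k, rfl⟩ : ∃ k : Fin p, i = Fin.cast hn (Fin.castAdd q k) := ⟨⟨i, hip⟩, Fin.ext (by simp)⟩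
    rw [h.left, ← map_smul, show ((Fin.cast hn (Fin.castAdd q k) : Fin n) : ℕ) = (k : ℕ) from rfl, sB_left h k.2.le]
    exact Submodule.mem_map_of_mem (ha k r hr)
  · have hkn : (i : ℕ) < n := i.2
    obtain ⟨k, rfl⟩ : ∃ k : Fin q, i = Fin.cast hn (Fin.natAdd p k) := ⟨⟨(i : ℕ) - p, by omega⟩, Fin.ext (by simp; omega)⟩
    rw [show ((Fin.cast hn (Fin.natAdd p k) : Fin n) : ℕ) = p + (k : ℕ) from rfl, sB_right h hfg hspan (k : ℕ),
      Submodule.mem_comap, map_smul, h.right]
    exact hb k r hr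

theorem span_of_over (h : Over' f g hn a b e) (hfg : LinearMap.range f = LinearMap.ker g)
    (ha : Submodule.span R (Set.range a) = ⊤) (hb : Submodule.span R (Set.range b) = ⊤) :
    Submodule.span R (Set.range e) = ⊤ := by
  rw [← sB_len (R := R) e (show n ≤ p + q by omega), sB_right h hfg ha q, sB_len b le_rfl, hb, Submodule.comap_top]

variable {FK : Ref R K p} {FM : Ref R M q} {FL : Ref R L n}

theorem piv_left (hf : Function.Injective f) (h : Over' f g hn a b e) (hF : Over' f g hn FK.f.1 FM.f.1 FL.f.1)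
    {i k : Fin p} {c : κ} (hp : Piv FK.f.1 a i k c) :
    Piv FL.f.1 e (Fin.cast hn (Fin.castAdd q i)) (Fin.cast hn (Fin.castAdd q k)) c := by
  obtain ⟨⟨r, hr, hrm⟩, hnm⟩ := hp
  have e1 : CycDet.spanBefore R L e i ⊔ CycDet.spanBefore R L FL.f.1 k =
      (CycDet.spanBefore R K a i ⊔ CycDet.spanBefore R K FK.f.1 k).map f := by
    rw [Submodule.map_sup, sB_left h i.2.le, sB_left hF k.2.le]
  simp only [Piv, Fin.val_cast, Fin.val_castAdd, h.left, hF.left, e1, ← map_smul, ← map_sub]
  refine ⟨⟨r, hr, Submodule.mem_map_of_mem hrm⟩, fun hm => hnm ?_⟩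
  obtain ⟨x, hx, hxe⟩ := hm
  exact hf hxe ▸ hx

theorem piv_right (hg : Function.Surjective g) (hfg : LinearMap.range f = LinearMap.ker g) (ha : Submodule.span R (Set.range a) = ⊤)
    (h : Over' f g hn a b e) (hF : Over' f g hn FK.f.1 FM.f.1 FL.f.1)
    {i k : Fin q} {c : κ} (hp : Piv FM.f.1 b i k c) :
    Piv FL.f.1 e (Fin.cast hn (Fin.natAdd p i)) (Fin.cast hn (Fin.natAdd p k)) c := by
  obtain ⟨⟨r, hr, hrm⟩, hnm⟩ := hp
  have e1 : CycDet.spanBefore R L e (p + i) ⊔ CycDet.spanBefore R L FL.f.1 (p + k) =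
      (CycDet.spanBefore R M b i ⊔ CycDet.spanBefore R M FM.f.1 k).comap g := by
    rw [sB_right h hfg ha, sB_right hF hfg FK.span_eq]
    refine le_antisymm (sup_le (Submodule.comap_mono le_sup_left) (Submodule.comap_mono le_sup_right)) ?_
    intro x hx
    obtain ⟨y, hy, z, hz, hyz⟩ := Submodule.mem_sup.1 hx
    obtain ⟨y', rfl⟩ := hg y
    exact Submodule.mem_sup.2 ⟨y', hy, x - y', by rw [Submodule.mem_comap, map_sub, ← hyz, add_sub_cancel_left]; exact hz,
      add_sub_cancel _ _⟩
  simp only [Piv, Fin.val_cast, Fin.val_natAdd, e1, Submodule.mem_comap, map_sub, map_smul, h.right, hF.right]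
  exact ⟨⟨r, hr, hrm⟩, hnm⟩

theorem phi_over (hf : Function.Injective f) (hg : Function.Surjective g) (hfg : LinearMap.range f = LinearMap.ker g)
    (hF : Over' f g hn FK.f.1 FM.f.1 FL.f.1) (h : Over' f g hn a b e) (ha0 : phi FK a ≠ 0) :
    phi FL e = phi FK a * phi FM b := by
  classical
  have ha := span_eq_top_of_phi_ne_zero FK ha0
  have han : Nondeg (R := R) a := by
    by_contra hh
    exact ha0 (phi_of_deg FK hh)
  by_cases hbn : Nondeg (R := R) b
  swap
  · rw [phi_of_deg FM hbn, mul_zero]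
    refine phi_of_deg FL fun he => hbn fun j hj => he (Fin.cast hn (Fin.natAdd p j)) ?_
    simp only [Fin.val_cast, Fin.val_natAdd]
    rw [sB_right h hfg ha, Submodule.mem_comap, h.right]
    exact hj
  obtain ⟨σ, c, hc⟩ := exists_pivots FK han
  obtain ⟨τ, d, hd⟩ := exists_pivots FM hbn
  let E : Fin p ⊕ Fin q ≃ Fin n := finSumFinEquiv.trans (finCongr hn)
  rw [phi_eq FK σ c hc, phi_eq FM τ d hd, phi_eq FL (E.permCongr (Equiv.sumCongr σ τ)) (fun i => Sum.elim c d (E.symm i)) fun i => ?_]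
  · rw [Equiv.Perm.sign_permCongr, show Equiv.sumCongr σ τ = Equiv.Perm.sumCongr σ τ from rfl, Equiv.Perm.sign_sumCongr,
      Equiv.prod_comp E.symm (Sum.elim c d), Fintype.prod_sum_type]
    simp only [Sum.elim_inl, Sum.elim_inr, Units.val_mul, Int.cast_mul]
    ring
  · obtain ⟨s, rfl⟩ := E.surjective i
    rw [Equiv.permCongr_apply, Equiv.symm_apply_apply]
    rcases s with i | j
    · exact piv_left hf h hF (hc i)
    · exact piv_right hg hfg ha h hF (hd j)

end CycDetLib
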