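import Groth.Prelude.Def_CycDet
import Mathlib.GroupTheory.Perm.Sign
import Mathlib.RingTheory.LocalRing.ResidueField.Basic
import Mathlib.Data.Fintype.EquivFin

/-! # The pivot functional on admissible tuples -/

set_option autoImplicit false
set_option linter.style.haveILetI false

universe u v

open IsLocalRing

namespace CycDetLib

variable {R : Type u} [CommRing R] [IsLocalRing R] {M : Type v} [AddCommGroup M] [Module R M] {l : ℕ}

local notation "sB" => CycDet.spanBefore R M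
local notation "κ" => IsLocalRing.ResidueField R

theorem mem_sB (e : Fin l → M) {j : Fin l} {i : ℕ} (h : (j : ℕ) < i) : e j ∈ sB e i :=
  Submodule.subset_span ⟨j, h, rfl⟩

theorem sB_mono (e : Fin l → M) {i j : ℕ} (h : i ≤ j) : sB e i ≤ sB e j :=
  Submodule.span_mono (Set.image_mono fun _ hx => lt_of_lt_of_le hx h)

theorem sB_zero (e : Fin l → M) : sB e 0 = ⊥ := by
  rw [CycDet.spanBefore, show {j : Fin l | (j : ℕ) < 0} = ∅ by simp, Set.image_empty, Submodule.span_empty]

theorem sB_succ (e : Fin l → M) (i : Fin l) : sB e ((i : ℕ) + 1) = sB e i ⊔ Submodule.span R {e i} := by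
  refine le_antisymm (Submodule.span_le.2 ?_) (sup_le (sB_mono e (Nat.le_succ _))
    ((Submodule.span_singleton_le_iff_mem _ _).2 (mem_sB e (Nat.lt_succ_self _))))
  rintro _ ⟨j, hj, rfl⟩
  have hj' : (j : ℕ) < (i : ℕ) + 1 := hj
  rcases Nat.lt_or_ge (j : ℕ) i with h | h
  · exact Submodule.mem_sup_left (mem_sB e h)
  · rw [show j = i from Fin.ext (by omega)]
    exact Submodule.mem_sup_right (Submodule.mem_span_singleton_self _)

theorem sB_len (e : Fin l → M) {i : ℕ} (h : l ≤ i) : sB e i = Submodule.span R (Set.range e) := by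
  rw [CycDet.spanBefore, ← Set.image_univ, show {j : Fin l | (j : ℕ) < i} = Set.univ from
    Set.eq_univ_of_forall fun j => lt_of_lt_of_le j.2 h]

theorem sB_congr {e e' : Fin l → M} {i : ℕ} (h : ∀ j : Fin l, (j : ℕ) < i → e j = e' j) : sB e i = sB e' i := by
  rw [CycDet.spanBefore, CycDet.spanBefore, show e '' {j : Fin l | (j : ℕ) < i} = e' '' {j : Fin l | (j : ℕ) < i} from Set.image_congr h]

/-- No entry lies in the span of the earlier ones. -/
def Nondeg (e : Fin l → M) : Prop := ∀ i : Fin l, e i ∉ sB e i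

/-- `e i` has pivot `k` with coefficient `c` relative to the flag of `f`. -/
def Piv (f e : Fin l → M) (i k : Fin l) (c : κ) : Prop :=
  (∃ r : R, residue R r = c ∧ e i - r • f k ∈ sB e i ⊔ sB f k) ∧ e i ∉ sB e i ⊔ sB f k

variable {f e : Fin l → M}

theorem piv_mem {i k : Fin l} {c : κ} (h : Piv f e i k c) : e i ∈ sB e i ⊔ sB f ((k : ℕ) + 1) := by
  obtain ⟨⟨r, -, hr⟩, -⟩ := h
  rw [← sub_add_cancel (e i) (r • f k)]
  have h1 : sB e i ⊔ sB f k ≤ sB e i ⊔ sB f ((k : ℕ) + 1) := sup_le_sup_left (sB_mono f (Nat.le_succ _)) _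
  exact add_mem (h1 hr)
    (Submodule.mem_sup_right (Submodule.smul_mem _ _ (mem_sB f (Nat.lt_succ_self _))))

theorem piv_unique {i k k' : Fin l} {c c' : κ} (h : Piv f e i k c) (h' : Piv f e i k' c') : k = k' ∧ c = c' := by
  have key : ∀ {k k' : Fin l} {c c' : κ}, Piv f e i k c → Piv f e i k' c' → ¬ k < k' := fun h h' hlt =>
    h'.2 ((show sB e i ⊔ sB f ((_ : Fin l).1 + 1) ≤ _ from sup_le_sup_left (sB_mono f (Fin.lt_def.1 hlt)) _) (piv_mem h))
  obtain rfl : k = k' := le_antisymm (not_lt.1 (key h' h)) (not_lt.1 (key h h'))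
  refine ⟨rfl, ?_⟩
  obtain ⟨⟨r, rfl, hr⟩, hn⟩ := h
  obtain ⟨⟨r', rfl, hr'⟩, -⟩ := h'
  rw [← sub_eq_zero, ← map_sub, residue_eq_zero_iff, mem_maximalIdeal, mem_nonunits_iff]
  intro hu
  obtain ⟨u, hu⟩ := hu
  have h2 : (r - r') • f k ∈ sB e i ⊔ sB f k := by
    have h3 := sub_mem hr' hr
    rwa [sub_sub_sub_cancel_left, ← sub_smul] at h3
  have h3 : f k ∈ sB e i ⊔ sB f k := by
    have := Submodule.smul_mem _ (↑u⁻¹ : R) h2
    rwa [smul_smul, ← hu, Units.inv_mul, one_smul] at this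
  apply hn
  rw [← sub_add_cancel (e i) (r • f k)]
  exact add_mem hr (Submodule.smul_mem _ _ h3)

theorem piv_ne_zero (hf : CycDet.IsAdmissible R M f) {i k : Fin l} {c : κ} (h : Piv f e i k c) : c ≠ 0 := by
  obtain ⟨⟨r, rfl, hr⟩, hn⟩ := h
  rw [Ne, residue_eq_zero_iff]
  intro hm
  apply hn
  rw [← sub_add_cancel (e i) (r • f k)]
  exact add_mem hr (Submodule.mem_sup_right (hf k r hm))

theorem exists_piv (hf : Submodule.span R (Set.range f) = ⊤) {i : Fin l} (h : e i ∉ sB e i) : ∃ (k : Fin l) (c : κ), Piv f e i k c := by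
  classical
  have hex : ∃ k, e i ∈ sB e i ⊔ sB f k := ⟨l, by rw [sB_len f le_rfl, hf, sup_top_eq]; trivial⟩
  set k₀ := Nat.find hex with hk₀
  have hpos : k₀ ≠ 0 := fun h0 => h (by
    have := Nat.find_spec hex
    rwa [← hk₀, h0, sB_zero, sup_bot_eq] at this)
  have hle : k₀ ≤ l := Nat.find_le (by rw [sB_len f le_rfl, hf, sup_top_eq]; trivial)
  refine ⟨⟨k₀ - 1, by omega⟩, ?_⟩
  have hsp := Nat.find_spec hex
  rw [← hk₀, show k₀ = ((⟨k₀ - 1, by omega⟩ : Fin l) : ℕ) + 1 by simp; omega, sB_succ, ← sup_assoc,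
    Submodule.mem_sup] at hsp
  obtain ⟨y, hy, z, hz, hyz⟩ := hsp
  obtain ⟨r, rfl⟩ := Submodule.mem_span_singleton.1 hz
  refine ⟨residue R r, ⟨r, rfl, by rw [← hyz, add_sub_cancel_right]; exact hy⟩, ?_⟩
  exact Nat.find_min hex (by simp only; omega)

theorem piv_injective {i i' k : Fin l} {c c' : κ} (hf : CycDet.IsAdmissible R M f) (h : Piv f e i k c)
    (h' : Piv f e i' k c') : i = i' := by
  have key : ∀ {i i' : Fin l} {c c' : κ}, Piv f e i k c → Piv f e i' k c' → ¬ i < i' := by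
    intro i i' c c' h h' hlt
    have hc := piv_ne_zero hf h
    obtain ⟨⟨r, rfl, hr⟩, -⟩ := h
    obtain ⟨u, hu⟩ : IsUnit r := by
      by_contra hn
      exact hc ((residue_eq_zero_iff _).2 ((mem_maximalIdeal r).2 hn))
    have h0 : sB e i ⊔ sB f k ≤ sB e i' ⊔ sB f k := sup_le_sup_right (sB_mono e (Fin.lt_def.1 hlt).le) _
    have h1 : e i - r • f k ∈ sB e i' ⊔ sB f k := h0 hr
    have h2 : e i ∈ sB e i' ⊔ sB f k := Submodule.mem_sup_left (mem_sB e (Fin.lt_def.1 hlt))
    have h3 := sub_mem h2 h1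
    rw [sub_sub_cancel] at h3
    have h4 : f k ∈ sB e i' ⊔ sB f k := by
      have := Submodule.smul_mem _ (↑u⁻¹ : R) h3
      rwa [smul_smul, ← hu, Units.inv_mul, one_smul] at this
    have h5 := piv_mem h'
    rw [sB_succ, ← sup_assoc] at h5
    exact h'.2 (sup_le le_rfl ((Submodule.span_singleton_le_iff_mem _ _).2 h4) h5)
  exact le_antisymm (not_lt.1 (key h' h)) (not_lt.1 (key h h'))

/-- A reference tuple. -/
structure Ref (R : Type u) [CommRing R] [IsLocalRing R] (M : Type v) [AddCommGroup M] [Module R M] (l : ℕ) where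
  f : CycDet.Adm R M l
  span_eq : Submodule.span R (Set.range f.1) = ⊤

variable (F : Ref R M l)

theorem exists_pivots {e : Fin l → M} (he : Nondeg (R := R) e) :
    ∃ (σ : Equiv.Perm (Fin l)) (c : Fin l → κ), ∀ i, Piv F.f.1 e i (σ i) (c i) := by
  choose k c hk using fun i => exists_piv F.span_eq (he i)
  have hinj : Function.Injective k := fun i i' h => piv_injective F.f.2 (hk i) (h ▸ hk i')
  exact ⟨Equiv.ofBijective k (Finite.injective_iff_bijective.1 hinj), c, hk⟩

open Classical in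
/-- The determinant functional. -/
noncomputable def phi (e : Fin l → M) : κ :=
  if h : Nondeg (R := R) e then
    ((Equiv.Perm.sign (exists_pivots F h).choose : ℤ) : κ) * ∏ i, (exists_pivots F h).choose_spec.choose i
  else 0

theorem phi_of_deg {e : Fin l → M} (h : ¬ Nondeg (R := R) e) : phi F e = 0 := dif_neg h

theorem phi_eq {e : Fin l → M} (σ : Equiv.Perm (Fin l)) (c : Fin l → κ) (h : ∀ i, Piv F.f.1 e i (σ i) (c i)) :
    phi F e = ((Equiv.Perm.sign σ : ℤ) : κ) * ∏ i, c i := by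
  have hn : Nondeg (R := R) e := fun i hi => (h i).2 (Submodule.mem_sup_left hi)
  rw [phi, dif_pos hn]
  obtain ⟨hσ, hc⟩ : (exists_pivots F hn).choose = σ ∧ (exists_pivots F hn).choose_spec.choose = c :=
    ⟨Equiv.ext fun i => (piv_unique ((exists_pivots F hn).choose_spec.choose_spec i) (h i)).1,
      funext fun i => (piv_unique ((exists_pivots F hn).choose_spec.choose_spec i) (h i)).2⟩
  rw [hc, hσ]

theorem phi_ne_zero {e : Fin l → M} (h : Nondeg (R := R) e) : phi F e ≠ 0 := by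
  obtain ⟨σ, c, hc⟩ := exists_pivots F h
  rw [phi_eq F σ c hc]
  refine mul_ne_zero ?_ (Finset.prod_ne_zero_iff.2 fun i _ => piv_ne_zero F.f.2 (hc i))
  rcases Int.units_eq_one_or (Equiv.Perm.sign σ) with h1 | h1 <;> simp [h1]

theorem phi_self (h : Nondeg (R := R) F.f.1) : phi F F.f.1 = 1 := by
  rw [phi_eq F 1 (fun _ => 1) fun i => ⟨⟨1, map_one _, ?_⟩, ?_⟩]
  · simp
  · rw [Equiv.Perm.one_apply, one_smul, sub_self]; exact zero_mem _
  · rw [Equiv.Perm.one_apply, sup_idem]; exact h i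

end CycDetLib
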